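import Groth.Agent.S13613
import Groth.Agent.EtPtsLib.Conditions
import Groth.Agent.S6644
import Groth.Prelude.Def_ARSys
import Mathlib.RingTheory.ReesAlgebra
import Mathlib.AlgebraicGeometry.Morphisms.QuasiFinite

/-!
Adic systems of constructible sheaves: on an irreducible scheme, if the zeroth member is constant
near the generic point, then all members are locally constant on one common neighbourhood of it.

The graded pieces are quotients of the modules `I ^ n ⊗ M`; the relations at a geometric point form a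
submodule over the Rees algebra, hence finitely generated, hence spread out to an open set.
-/

set_option backward.isDefEq.respectTransparency false
set_option backward.isDefEq.respectTransparency.types false
set_option autoImplicit false
set_option maxHeartbeats 1000000

universe u

open CategoryTheory CategoryTheory.Limits AlgebraicGeometry Opposite TopologicalSpace

namespace Groth.Agent.AdicStrataLib

open Groth.Agent.FLCLib.Mdl Groth.Agent.EtPtsLib Groth.Agent.S6646 Groth.Agent.S13613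

theorem locallyQuasiFinite_of_etale {X Y : Scheme.{u}} (g : X ⟶ Y) [AlgebraicGeometry.Etale g] :
    LocallyQuasiFinite g := by
  rw [HasRingHomProperty.iff_appLE (P := @LocallyQuasiFinite)]
  intro U V e
  algebraize [(g.appLE U V e).hom]
  haveI : Algebra.Etale Γ(Y, U) Γ(X, V) :=
    RingHom.etale_algebraMap.mp (g.etale_appLE U.2 V.2 e)
  exact RingHom.quasiFinite_algebraMap.mpr inferInstance

/-- Near a maximal point of a Noetherian sober space everything is a specialization of it. -/
theorem exists_open_specializes {α : Type u} [TopologicalSpace α] [NoetherianSpace α] [QuasiSober α]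
    (u₀ : α) (hmax : ∀ y, y ⤳ u₀ → y = u₀) : ∃ O : Set α, IsOpen O ∧ u₀ ∈ O ∧ ∀ y ∈ O, u₀ ⤳ y := by
  let S := {Z | Z ∈ irreducibleComponents α ∧ u₀ ∉ Z}
  refine ⟨(⋃ Z ∈ S, Z)ᶜ, ?_, ?_, fun y hy => ?_⟩
  · exact (Set.Finite.isClosed_biUnion
      ((NoetherianSpace.finite_irreducibleComponents (α := α)).subset fun Z hZ => hZ.1)
      fun Z hZ => isClosed_of_mem_irreducibleComponents Z hZ.1).isOpen_compl
  · simp only [Set.mem_compl_iff, Set.mem_iUnion, not_exists]
    exact fun Z hZ h => hZ.2 h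
  · have hu : u₀ ∈ irreducibleComponent y := by
      by_contra hu
      exact hy (Set.mem_biUnion (x := irreducibleComponent y)
        ⟨irreducibleComponent_mem_irreducibleComponents y, hu⟩ mem_irreducibleComponent)
    obtain ⟨g, hg⟩ := QuasiSober.sober (isIrreducible_irreducibleComponent (x := y)) isClosed_irreducibleComponent
    obtain rfl := hmax g (hg.specializes hu)
    exact hg.specializes mem_irreducibleComponent

/-- Above a generic point, every point of an etale scheme dominates a neighbourhood of itself. -/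
theorem exists_opens_specializes {T : Scheme.{u}} [IsNoetherian T] {η : T} (hη : ∀ y, η ⤳ y) (U : T.Etale)
    (u₀ : U.left) (hu : U.hom u₀ = η) : ∃ O : U.left.Opens, u₀ ∈ O ∧ ∀ y ∈ O, u₀ ⤳ y := by
  let f : U.left ⟶ T := U.hom
  haveI : AlgebraicGeometry.Etale f := U.prop
  haveI : LocallyQuasiFinite f := locallyQuasiFinite_of_etale f
  haveI : IsLocallyNoetherian U.left := LocallyOfFiniteType.isLocallyNoetherian f
  obtain ⟨A, hA, huA, -⟩ := exists_isAffineOpen_mem_and_subset (show u₀ ∈ (⊤ : U.left.Opens) from trivial)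
  haveI : IsAffine A.toScheme := hA
  haveI : IsLocallyNoetherian A.toScheme := LocallyOfFiniteType.isLocallyNoetherian A.ι
  haveI : IsNoetherian A.toScheme := {}
  have hdisc := f.isDiscrete_preimage_singleton η
  haveI : DiscreteTopology ↥(f ⁻¹' {η}) := hdisc.to_subtype
  haveI : NoetherianSpace A.toScheme := inferInstance
  obtain ⟨O, hO, huO, hspec⟩ := exists_open_specializes (α := A.toScheme) ⟨u₀, huA⟩ fun y hy => by
    have hy' : A.ι y ⤳ u₀ := hy.map A.ι.continuous
    have h1 : f (A.ι y) ⤳ η := hu ▸ hy'.map f.continuous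
    have h2 : f (A.ι y) = η := (h1.antisymm (hη _)).eq
    have h3 : (⟨A.ι y, h2⟩ : ↥(f ⁻¹' {η})) ⤳ ⟨u₀, hu⟩ := (subtype_specializes_iff _ _).2 hy'
    exact A.ι.isOpenEmbedding.injective (congrArg Subtype.val (specializes_iff_eq.1 h3))
  refine ⟨⟨A.ι '' O, A.ι.isOpenEmbedding.isOpenMap _ hO⟩, ⟨⟨u₀, huA⟩, huO, rfl⟩, ?_⟩
  rintro _ ⟨y, hy, rfl⟩
  exact (hspec y hy).map A.ι.continuous

variable {Λ : Type (u + 1)} [CommRing Λ] {T : Scheme.{u}}

/-- A section with all germs zero is zero. -/
theorem sect_zero_of_germs (F : EtModW.Mod Λ T) (U : T.Etale) (s : F.obj.obj (op U))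
    (h : ∀ (Ω : Type u) [Field Ω] [IsSepClosed Ω] (ξ : Spec (CommRingCat.of Ω) ⟶ T)
      (k : (Scheme.pointSmallEtale ξ).fiber.obj U), germM ξ F k s = 0) : s = 0 := by
  have hR : Presheaf.equalizerSieve (F := F.obj) (X := op U) s 0 ∈ T.smallEtaleTopology U :=
    detects T _ fun x k => by
      obtain ⟨V, g, y, hy, hg⟩ := ((Scheme.pointSmallEtale _).toPresheafFiber_eq_iff' U k s 0).1
        ((h _ (geomPt x) k).trans (map_zero _).symm)
      exact ⟨V, g, hg, y, hy⟩
  have hsep := ((isSheaf_iff_isSheaf_of_type _ _).1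
    ((sheafCompose T.smallEtaleTopology (forget (ModuleCat.{u + 1} Λ))).obj F).property).isSeparated
  exact (hsep _ hR).ext fun Y f hf => hf

section Psi

variable {I : Ideal Λ} {G : ARSys.PS (EtModW.Mod Λ T)} (hG : ARSys.IsAdic I G)

include hG in
theorem exists_psi (n : ℕ) (c : ↥(I ^ n)) :
    ∃ φ : G.obj (op 0) ⟶ G.obj (op n), ARSys.tr G (Nat.zero_le n) ≫ φ = (c : Λ) • 𝟙 (G.obj (op n)) :=
  ARSysLib.isQuot_factor (hG.2 0 n (Nat.zero_le n)) _ fun b hb => by
    rw [smul_smul]
    refine hG.1 n _ ?_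
    rw [pow_one] at hb
    rw [pow_succ']
    exact Ideal.mul_mem_mul hb c.2

/-- Multiplication by an element of `I ^ n`, from the zeroth member to the `n`-th. -/
noncomputable def psi (n : ℕ) (c : ↥(I ^ n)) : G.obj (op 0) ⟶ G.obj (op n) := (exists_psi hG n c).choose

theorem psi_spec (n : ℕ) (c : ↥(I ^ n)) :
    ARSys.tr G (Nat.zero_le n) ≫ psi hG n c = (c : Λ) • 𝟙 (G.obj (op n)) := (exists_psi hG n c).choose_spec

/-- `psi` as a linear map. -/
noncomputable def psiL (n : ℕ) : ↥(I ^ n) →ₗ[Λ] (G.obj (op 0) ⟶ G.obj (op n)) where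
  toFun := psi hG n
  map_add' c c' := by
    haveI := ARSysLib.epi_of_isQuot (hG.2 0 n (Nat.zero_le n))
    rw [← cancel_epi (ARSys.tr G (Nat.zero_le n)), Preadditive.comp_add, psi_spec, psi_spec, psi_spec,
      Submodule.coe_add, add_smul]
  map_smul' r c := by
    haveI := ARSysLib.epi_of_isQuot (hG.2 0 n (Nat.zero_le n))
    rw [← cancel_epi (ARSys.tr G (Nat.zero_le n)), RingHom.id_apply, Linear.comp_smul, psi_spec, psi_spec,
      Submodule.coe_smul, smul_eq_mul, mul_smul]

theorem psi_comp_tr (n : ℕ) (c : ↥(I ^ (n + 1))) :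
    psi hG (n + 1) c ≫ ARSys.tr G (Nat.le_succ n) = 0 := by
  haveI := ARSysLib.epi_of_isQuot (hG.2 0 (n + 1) (Nat.zero_le _))
  rw [← cancel_epi (ARSys.tr G (Nat.zero_le (n + 1))), comp_zero, ← Category.assoc, psi_spec, Linear.smul_comp,
    Category.id_comp]
  exact ARSysLib.homKilled_of_killed (hG.1 n) _ _ c.2

variable {U : T.Etale} {r : ℕ} (e : Fin r → (G.obj (op 0)).obj.obj (op U))

/-- The section `Σ cᵢ eᵢ` of the `n`-th member. -/
noncomputable def secL (n : ℕ) : (Fin r → ↥(I ^ n)) →ₗ[Λ] (G.obj (op n)).obj.obj (op U) where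
  toFun c := ∑ i, (psiL hG n (c i)).hom.app (op U) (e i)
  map_add' c c' := by
    rw [← Finset.sum_add_distrib]
    refine Finset.sum_congr rfl fun i _ => ?_
    rw [Pi.add_apply, map_add]
    rfl
  map_smul' a c := by
    rw [RingHom.id_apply, Finset.smul_sum]
    refine Finset.sum_congr rfl fun i _ => ?_
    rw [Pi.smul_apply, map_smul]
    rfl

variable {Ω : Type u} [Field Ω] [IsSepClosed Ω] (ξ : Spec (CommRingCat.of Ω) ⟶ T)
  (k : (Scheme.pointSmallEtale ξ).fiber.obj U)

theorem stk_smul_id {F : EtModW.Mod Λ T} (a : Λ) (z : (EtModW.stalk Λ ξ).obj F) : stk ξ (a • 𝟙 F) z = a • z := by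
  show ((EtModW.stalk Λ ξ).map (a • 𝟙 F)).hom z = _
  rw [Functor.Linear.map_smul, CategoryTheory.Functor.map_id]
  rfl

theorem germ_sec (n : ℕ) (c : Fin r → ↥(I ^ n)) (z : Fin r → (EtModW.stalk Λ ξ).obj (G.obj (op n)))
    (hz : ∀ i, stk ξ (ARSys.tr G (Nat.zero_le n)) (z i) = germM ξ (G.obj (op 0)) k (e i)) :
    germM ξ (G.obj (op n)) k (secL hG e n c) = ∑ i, (c i : Λ) • z i := by
  show ((Scheme.pointSmallEtale ξ).toPresheafFiber U k (G.obj (op n)).obj).hom
    (∑ i, (psiL hG n (c i)).hom.app (op U) (e i)) = _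
  rw [map_sum]
  refine Finset.sum_congr rfl fun i _ => ?_
  refine (stk_germ ξ (psi hG n (c i)) k (e i)).symm.trans ?_
  rw [← hz, ← stk_comp, psi_spec, stk_smul_id]

include hG in
theorem exists_lifts (n : ℕ) : ∃ z : Fin r → (EtModW.stalk Λ ξ).obj (G.obj (op n)),
    ∀ i, stk ξ (ARSys.tr G (Nat.zero_le n)) (z i) = germM ξ (G.obj (op 0)) k (e i) := by
  haveI := ARSysLib.epi_of_isQuot (hG.2 0 n (Nat.zero_le n))
  choose z hz using fun i => stk_surjective ξ (ARSys.tr G (Nat.zero_le n)) (germM ξ (G.obj (op 0)) k (e i))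
  exact ⟨z, hz⟩

variable [IsNoetherianRing Λ]

include hG in
theorem ker_tr {n N : ℕ} (h : n ≤ N) (w : (EtModW.stalk Λ ξ).obj (G.obj (op N)))
    (hw : stk ξ (ARSys.tr G h) w = 0) :
    w ∈ (I ^ (n + 1)) • (⊤ : Submodule Λ ((EtModW.stalk Λ ξ).obj (G.obj (op N)))) := by
  let φ : (EtModW.stalk Λ ξ).obj (G.obj (op N)) ⟶ ModuleCat.of Λ (((EtModW.stalk Λ ξ).obj (G.obj (op N))) ⧸
      ((I ^ (n + 1)) • (⊤ : Submodule Λ ((EtModW.stalk Λ ξ).obj (G.obj (op N)))))) := ModuleCat.ofHom (Submodule.mkQ _)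
  have hφ : ARSys.HomKilledBy (I ^ (n + 1)) φ := fun a ha => by
    ext x
    exact (Submodule.Quotient.mk_eq_zero _).2 (Submodule.smul_mem_smul ha (Submodule.mem_top (x := x)))
  obtain ⟨ψ, hψ⟩ := ARSysLib.isQuot_factor (isQuot_map ξ (IsNoetherian.noetherian _) (hG.2 n N h)) φ hφ
  refine (Submodule.Quotient.mk_eq_zero _).1 ((ConcreteCategory.congr_hom hψ w).symm.trans ?_)
  show ψ (stk ξ (ARSys.tr G h) w) = 0
  rw [hw, map_zero]

include hG in
omit [IsNoetherianRing Λ] in
theorem smul_killed (N j m : ℕ) (hjm : N + 1 ≤ j + m) {a : Λ} (ha : a ∈ I ^ j)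
    {w : (EtModW.stalk Λ ξ).obj (G.obj (op N))}
    (hw : w ∈ (I ^ m) • (⊤ : Submodule Λ ((EtModW.stalk Λ ξ).obj (G.obj (op N))))) : a • w = 0 := by
  refine Submodule.smul_induction_on hw (fun b hb x _ => ?_) fun x y hx hy => by rw [smul_add, hx, hy, add_zero]
  rw [smul_smul, ← stk_smul_id ξ (a * b) x,
    hG.1 N _ (Ideal.pow_le_pow_right hjm (pow_add I j m ▸ Ideal.mul_mem_mul ha hb))]
  show ((EtModW.stalk Λ ξ).map 0).hom x = 0
  rw [Functor.map_zero]
  rfl

/-- The coefficients in degree `n`. -/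
def co (n : ℕ) (p : Fin r → reesAlgebra I) : Fin r → ↥(I ^ n) := fun i => ⟨(p i).1.coeff n, (p i).2 n⟩

/-- The relations between the `eᵢ` at a geometric point, a submodule over the Rees algebra. -/
noncomputable def rel : Submodule (reesAlgebra I) (Fin r → reesAlgebra I) where
  carrier := {p | ∀ n, germM ξ (G.obj (op n)) k (secL hG e n (co n p)) = 0}
  zero_mem' n := by
    rw [show co n (0 : Fin r → reesAlgebra I) = 0 from funext fun i => Subtype.ext (by simp [co]), map_zero]
    exact map_zero _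
  add_mem' {p q} hp hq n := by
    rw [show co n (p + q) = co n p + co n q from funext fun i => Subtype.ext (by simp [co]), map_add]
    refine (map_add ((Scheme.pointSmallEtale ξ).toPresheafFiber U k (G.obj (op n)).obj).hom _ _).trans ?_
    exact (congrArg₂ (· + ·) (hp n) (hq n)).trans (add_zero 0)
  smul_mem' q p hp N := by
    obtain ⟨z, hz⟩ := exists_lifts hG e ξ k N
    rw [germ_sec hG e ξ k N _ z hz]
    have : ∀ i, ((co N (q • p) i : ↥(I ^ N)) : Λ) • z i =
        ∑ x ∈ Finset.HasAntidiagonal.antidiagonal N, q.1.coeff x.1 • ((p i).1.coeff x.2 • z i) := fun i => by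
      simp only [co, Pi.smul_apply, smul_eq_mul, Subalgebra.coe_mul, Polynomial.coeff_mul, Finset.sum_smul, mul_smul]
    simp_rw [this]
    rw [Finset.sum_comm]
    refine Finset.sum_eq_zero fun x hx => ?_
    rw [← Finset.smul_sum]
    have hxN : x.1 + x.2 = N := Finset.HasAntidiagonal.mem_antidiagonal.1 hx
    have hle : x.2 ≤ N := by omega
    refine smul_killed hG ξ N x.1 (x.2 + 1) (by omega) (q.2 x.1) (ker_tr hG ξ hle _ ?_)
    rw [map_sum]
    simp only [map_smul]
    refine (germ_sec hG e ξ k x.2 (co x.2 p) (fun i => stk ξ (ARSys.tr G hle) (z i)) fun i => ?_).symm.trans (hp x.2)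
    rw [← stk_comp, ← hz i, ← G.map_comp]
    rfl

end Psi

open scoped Classical in
/-- On an irreducible Noetherian scheme, the members of an adic system are locally constant on one
neighbourhood of the generic point, once the zeroth one is constant near it. -/
theorem exists_constNear [IsNoetherianRing Λ] [IsNoetherian T] {I : Ideal Λ} {G : ARSys.PS (EtModW.Mod Λ T)}
    (hG : ARSys.IsAdic I G) {η : T} (hη : ∀ y, η ⤳ y) (h0 : ConstNear (G.obj (op 0)) η) :
    ∃ V : T.Opens, η ∈ V ∧ ∀ (n : ℕ), ∀ x ∈ V, ConstNear (G.obj (op n)) x := by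
  obtain ⟨U, l, M, hM, a, ha⟩ := h0
  obtain ⟨r, q, hq⟩ := Module.Finite.exists_fin' Λ M
  let e : Fin r → (G.obj (op 0)).obj.obj (op U) := fun i => a (q (Pi.single i 1))
  let u₀ : U.left := liftHom (geomPt η) l default
  have hu : U.hom u₀ = η :=
    (congrArg (fun t : Spec (CommRingCat.of (SeparableClosure (T.residueField η))) ⟶ T => t default)
      (liftHom_comp (geomPt η) l)).trans (geomPt_default η)
  obtain ⟨O, huO, hO⟩ := exists_opens_specializes hη U u₀ hu
  obtain ⟨S, hS⟩ := IsNoetherian.noetherian (rel hG e (geomPt η) l)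
  let D : (Fin r → reesAlgebra I) → ℕ := fun p => Finset.univ.sup fun i => (p i).1.natDegree
  let W : U.left.Opens :=
    ⟨(O : Set U.left) ∩ ⋂ p ∈ S, ⋂ n ∈ Finset.range (D p + 1), agree (G.obj (op n)).obj (secL hG e n (co n p)) 0,
      O.2.inter (isOpen_biInter_finset fun p _ => isOpen_biInter_finset fun n _ => isOpen_agree _ _ _)⟩
  have germ0 : ∀ (n : ℕ) {Ω : Type u} [Field Ω] [IsSepClosed Ω] (ξ : Spec (CommRingCat.of Ω) ⟶ T)
      (k : (Scheme.pointSmallEtale ξ).fiber.obj U) (s : (G.obj (op n)).obj.obj (op U)),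
      germM ξ (G.obj (op n)) k s = 0 ↔ liftHom ξ k default ∈ agree (G.obj (op n)).obj s 0 := by
    intro n Ω _ _ ξ k s
    rw [← germ_eq_iff_mem_agree ξ (G.obj (op n)).obj k s 0]
    exact ⟨fun h => h.trans (map_zero _).symm, fun h => h.trans (map_zero _)⟩
  have huW : u₀ ∈ W := ⟨huO, Set.mem_iInter₂.2 fun p hp => Set.mem_iInter₂.2 fun n _ =>
    (germ0 n _ l _).1 ((hS ▸ Submodule.subset_span hp : p ∈ rel hG e (geomPt η) l) n)⟩
  -- the relations are the same at all points of `W`
  have hrel : ∀ (Ω : Type u) [Field Ω] [IsSepClosed Ω] (ξ : Spec (CommRingCat.of Ω) ⟶ T)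
      (k : (Scheme.pointSmallEtale ξ).fiber.obj U), liftHom ξ k default ∈ W → ∀ (n : ℕ) (c : Fin r → ↥(I ^ n)),
      (germM ξ (G.obj (op n)) k (secL hG e n c) = 0 ↔ germM (geomPt η) (G.obj (op n)) l (secL hG e n c) = 0) := by
    intro Ω _ _ ξ k hk n c
    constructor
    · intro h
      exact (germ0 n _ l _).2 ((hO _ hk.1).mem_open (isOpen_agree _ _ _) ((germ0 n ξ k _).1 h))
    · intro h
      let p : Fin r → reesAlgebra I := fun i => ⟨Polynomial.monomial n (c i : Λ), reesAlgebra.monomial_mem.2 (c i).2⟩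
      have hpc : co n p = c := funext fun i => Subtype.ext (by simp [co, p])
      have hp : p ∈ rel hG e (geomPt η) l := fun m => by
        by_cases hm : m = n
        · subst hm; rw [hpc]; exact h
        · rw [show co m p = 0 from funext fun i => Subtype.ext (by simp [co, p, Polynomial.coeff_monomial, Ne.symm hm]),
            map_zero]
          exact map_zero _
      have hle : rel hG e (geomPt η) l ≤ rel hG e ξ k := by
        rw [← hS, Submodule.span_le]
        intro p' hp' m
        by_cases hm : m ≤ D p'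
        · exact (germ0 m ξ k _).2 (Set.mem_iInter₂.1 (Set.mem_iInter₂.1 hk.2 p' hp') m
            (Finset.mem_range.2 (Nat.lt_succ_of_le hm)))
        · rw [show co m p' = 0 from funext fun i => Subtype.ext (Polynomial.coeff_eq_zero_of_natDegree_lt
            (lt_of_le_of_lt (Finset.le_sup (f := fun i => (p' i).1.natDegree) (Finset.mem_univ i)) (not_le.1 hm))),
            map_zero]
          exact map_zero _
      have := hle hp n
      rwa [hpc] at this
  let g := openIncl U W
  haveI : AlgebraicGeometry.Etale U.hom := U.prop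
  refine ⟨⟨U.hom '' (W : Set U.left), U.hom.isOpenMap _ W.2⟩, ⟨u₀, huW, hu⟩, ?_⟩
  rintro n _ ⟨w, hw, rfl⟩
  obtain ⟨lw, -⟩ := Scheme.pointSmallEtaleFiberObjToPreimage_surjective (geomPt (U.hom w)) (geomPt_default _)
    (openSub U W) ⟨(⟨w, hw⟩ : W.toScheme), rfl⟩
  induction n with
  | zero => exact ⟨openSub U W, lw, M, hM, a ≫ (G.obj (op 0)).obj.map g.op, ha.map g⟩
  | succ n ih =>
    let tr' := ARSys.tr G (Nat.le_succ n)
    haveI : Epi tr' := ARSysLib.epi_of_isQuot (hG.2 n (n + 1) (Nat.le_succ n))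
    refine constNear_extension (kernel.ι tr') tr' (kernel.condition tr') (ShortComplex.exact_kernel tr') ?_ ih
    let R : Submodule Λ (Fin r → ↥(I ^ (n + 1))) := LinearMap.ker
      (((Scheme.pointSmallEtale (geomPt η)).toPresheafFiber U l (G.obj (op (n + 1))).obj).hom ∘ₗ secL hG e (n + 1))
    let S' := ShortComplex.mk (kernel.ι tr') tr' (kernel.condition tr')
    haveI : Mono S'.f := inferInstanceAs (Mono (kernel.ι tr'))
    have hT := exact_sect (openSub U W) S' (ShortComplex.exact_kernel tr')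
    haveI : Mono (S'.map (sectF (openSub U W))).f :=
      inferInstanceAs (Mono ((sectF (openSub U W)).map (kernel.ι tr')))
    let p₀ : ModuleCat.of Λ (Fin r → ↥(I ^ (n + 1))) ⟶ (S'.map (sectF (openSub U W))).X₂ :=
      ModuleCat.ofHom (((G.obj (op (n + 1))).obj.map g.op).hom ∘ₗ secL hG e (n + 1))
    have hp₀ : p₀ ≫ (S'.map (sectF (openSub U W))).g = 0 := by
      refine ModuleCat.hom_ext (LinearMap.ext fun c => ?_)
      show tr'.hom.app (op (openSub U W)) ((G.obj (op (n + 1))).obj.map g.op (secL hG e (n + 1) c)) = 0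
      rw [NatTrans.naturality_apply tr'.hom g.op]
      refine (congrArg _ ?_).trans (map_zero _)
      show tr'.hom.app (op U) (∑ i, (psiL hG (n + 1) (c i)).hom.app (op U) (e i)) = 0
      rw [map_sum]
      refine Finset.sum_eq_zero fun i _ => ?_
      exact LinearMap.congr_fun (congrArg ModuleCat.Hom.hom
        (NatTrans.congr_app (congrArg (fun t => t.hom) (psi_comp_tr hG n (c i))) (op U))) (e i)
    let θ₀ := hT.lift p₀ hp₀
    have hθ₀ : ∀ c, (kernel.ι tr').hom.app (op (openSub U W)) (θ₀ c) = p₀ c := fun c =>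
      ConcreteCategory.congr_hom (hT.lift_f p₀ hp₀) c
    have key : ∀ (Ω : Type u) [Field Ω] [IsSepClosed Ω] (ξ : Spec (CommRingCat.of Ω) ⟶ T)
        (k : (Scheme.pointSmallEtale ξ).fiber.obj (openSub U W)) (c : Fin r → ↥(I ^ (n + 1))),
        stk ξ (kernel.ι tr') (germM ξ (kernel tr') k (θ₀ c)) =
          germM ξ (G.obj (op (n + 1))) ((Scheme.pointSmallEtale ξ).fiber.map g k) (secL hG e (n + 1) c) :=
      fun Ω _ _ ξ k c => by
        rw [stk_germ, hθ₀]
        exact germM_map ξ _ g k _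
    have hin : ∀ (Ω : Type u) [Field Ω] [IsSepClosed Ω] (ξ : Spec (CommRingCat.of Ω) ⟶ T)
        (k : (Scheme.pointSmallEtale ξ).fiber.obj (openSub U W)),
        liftHom ξ ((Scheme.pointSmallEtale ξ).fiber.map g k) default ∈ W := fun Ω _ _ ξ k => by
      rw [liftHom_map, Scheme.Hom.comp_apply]
      exact (liftHom ξ k default).2
    have hR : R ≤ LinearMap.ker θ₀.hom := fun c hc => sect_zero_of_germs _ _ _ fun Ω _ _ ξ k => by
      apply stk_injective ξ (kernel.ι tr')
      rw [key, map_zero]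
      exact (hrel Ω ξ _ (hin Ω ξ k) _ c).2 hc
    refine ⟨openSub U W, lw, ModuleCat.of Λ ((Fin r → ↥(I ^ (n + 1))) ⧸ R), inferInstance,
      ModuleCat.ofHom (R.liftQ θ₀.hom hR), fun Ω _ _ ξ k => ?_⟩
    let k' := (Scheme.pointSmallEtale ξ).fiber.map g k
    constructor
    · refine (injective_iff_map_eq_zero
        (((Scheme.pointSmallEtale ξ).toPresheafFiber (openSub U W) k (kernel tr').obj).hom ∘ₗ
          R.liftQ θ₀.hom hR)).2 fun x hx => ?_
      obtain ⟨c, rfl⟩ := Submodule.Quotient.mk_surjective _ x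
      refine (Submodule.Quotient.mk_eq_zero _).2 ((hrel Ω ξ k' (hin Ω ξ k) _ c).1 ?_)
      rw [← key]
      exact (congrArg (stk ξ (kernel.ι tr')) hx).trans (map_zero _)
    · intro z
      suffices h : ∃ c, germM ξ (G.obj (op (n + 1))) k' (secL hG e (n + 1) c) = stk ξ (kernel.ι tr') z by
        obtain ⟨c, hc⟩ := h
        exact ⟨Submodule.Quotient.mk c, stk_injective ξ (kernel.ι tr') ((key Ω ξ k c).trans hc)⟩
      have hz0 : stk ξ tr' (stk ξ (kernel.ι tr') z) = 0 := by
        rw [← stk_comp, kernel.condition]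
        show ((EtModW.stalk Λ ξ).map 0).hom z = 0
        rw [Functor.map_zero]; rfl
      obtain ⟨zl, hzl⟩ := exists_lifts hG e ξ k' (n + 1)
      refine Submodule.smul_induction_on (p := fun y => ∃ c,
        germM ξ (G.obj (op (n + 1))) k' (secL hG e (n + 1) c) = y) (ker_tr hG ξ _ _ hz0) (fun b hb y _ => ?_) ?_
      · obtain ⟨m, hm⟩ := (ha Ω ξ k').2 (stk ξ (ARSys.tr G (Nat.zero_le (n + 1))) y)
        obtain ⟨v, rfl⟩ := hq m
        refine ⟨fun i => ⟨b * v i, Ideal.mul_mem_right _ _ hb⟩, ?_⟩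
        rw [germ_sec hG e ξ k' _ _ zl hzl]
        have h1 : stk ξ (ARSys.tr G (Nat.zero_le (n + 1))) (y - ∑ i, v i • zl i) = 0 := by
          rw [map_sub, map_sum, sub_eq_zero, ← hm]
          simp only [map_smul, hzl]
          show ((Scheme.pointSmallEtale ξ).toPresheafFiber U k' (G.obj (op 0)).obj).hom (a (q v)) =
            ∑ i, v i • ((Scheme.pointSmallEtale ξ).toPresheafFiber U k' (G.obj (op 0)).obj).hom (a (q (Pi.single i 1)))
          conv_lhs => rw [pi_eq_sum_univ' v]
          simp only [map_sum, map_smul]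
        have h2 := smul_killed hG ξ (n + 1) (n + 1) 1 le_rfl hb (ker_tr hG ξ (Nat.zero_le (n + 1)) _ h1)
        rw [smul_sub, sub_eq_zero, Finset.smul_sum] at h2
        simp only [mul_smul]
        exact h2.symm
      · rintro _ _ ⟨c, rfl⟩ ⟨c', rfl⟩
        exact ⟨c + c', by rw [map_add]; exact map_add _ _ _⟩

end Groth.Agent.AdicStrataLib
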