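import Groth.Agent.AdicStrataLib.Core
import Groth.Agent.S13614

/-!
One stratification for all members of an adic system of constructible sheaves of modules.
-/

set_option backward.isDefEq.respectTransparency false
set_option backward.isDefEq.respectTransparency.types false
set_option autoImplicit false
set_option maxHeartbeats 1000000

universe u

open CategoryTheory CategoryTheory.Limits AlgebraicGeometry Opposite TopologicalSpace Topology

namespace Groth.Agent.AdicStrataLib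

open Groth.Agent.FLCLib Groth.Agent.FLCLib.Mdl Groth.Agent.EtPtsLib Groth.Agent.S6646 Groth.Agent.S13613
  Groth.Agent.S6644

variable {Λ : Type (u + 1)} [CommRing Λ]

theorem constNear_pull {X Y : Scheme.{u}} (f : Y ⟶ X) {F : EtModW.Mod Λ X} (y : Y) (h : ConstNear F (f y)) :
    ConstNear ((EtModW.pull Λ f).obj F) y := by
  obtain ⟨U, l, M, hM, a, ha⟩ := h
  obtain ⟨y', hy'⟩ := bcFst_range f (U := U) ⟨liftHom (geomPt (f y)) l default,
    (congrArg (fun q : Spec (CommRingCat.of (SeparableClosure (X.residueField (f y)))) ⟶ X => q default)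
      (liftHom_comp (geomPt (f y)) l)).trans (geomPt_default _)⟩
  obtain ⟨ly, -⟩ := Scheme.pointSmallEtaleFiberObjToPreimage_surjective (geomPt y) (geomPt_default _)
    ((EtCoh.bc f).obj U) ⟨y', hy'⟩
  exact ⟨(EtCoh.bc f).obj U, ly, M, hM, _, ha.pull f⟩

variable [IsNoetherianRing Λ]

/-- Local constancy descends along an immersion whose image is a neighbourhood. -/
theorem constNear_of_immersion {T X : Scheme.{u}} (g : T ⟶ X) [IsImmersion g] {F : EtModW.Mod Λ X} (t : T)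
    (O : X.Opens) (hO : g t ∈ O) (hOg : (O : Set X) ⊆ Set.range g) (h : ConstNear ((EtModW.pull Λ g).obj F) t) :
    ConstNear F (g t) := by
  obtain ⟨W', lW', M, hM, a', ha'⟩ := h
  obtain ⟨ζ, hζg⟩ := exists_lift_immersion (geomPt (g t)) g (by rw [geomPt_default]; exact ⟨t, rfl⟩)
  have hζ : ζ default = t := g.isEmbedding.injective <| by
    rw [← Scheme.Hom.comp_apply, hζg, geomPt_default]
  have hξ : (ζ ≫ g) default = g t := by rw [hζg, geomPt_default]
  obtain ⟨l', -⟩ := Scheme.pointSmallEtaleFiberObjToPreimage_surjective ζ hζ W'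
    ⟨liftHom (geomPt t) lW' default,
      (congrArg (fun q : Spec (CommRingCat.of (SeparableClosure (T.residueField t))) ⟶ T => q default)
        (liftHom_comp (geomPt t) lW')).trans (geomPt_default _)⟩
  let ξ := ζ ≫ g
  let Φ := Scheme.pointSmallEtale ξ
  let unit := ((EtCoh.bc g).sheafAdjunctionContinuous (ModuleCat.{u + 1} Λ) X.smallEtaleTopology
    T.smallEtaleTopology).unit.app F
  have hbc : ∀ {Ω : Type u} [Field Ω] [IsSepClosed Ω] (η : Spec (CommRingCat.of Ω) ⟶ T) {U : X.Etale}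
      (k : (Scheme.pointSmallEtale (η ≫ g)).fiber.obj U) (s : F.obj.obj (op U)),
      unitStalk g η F (germM (η ≫ g) F k s) =
        germM η ((EtModW.pull Λ g).obj F) (liftBc g η U k) (unit.hom.app (op U) s) := fun {Ω} _ _ η {U} k s =>
    ConcreteCategory.congr_hom (toPresheafFiber_unitStalk g η F U k) s
  obtain ⟨r, q, hq⟩ := Module.Finite.exists_fin' Λ M
  -- lifts of the generators
  have hlift : ∀ L : List (Fin r), ∃ (U : X.Etale) (l : Φ.fiber.obj U) (s : Fin r → F.obj.obj (op U)),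
      ∀ i ∈ L, unitStalk g ζ F (germM ξ F l (s i)) =
        germM ζ ((EtModW.pull Λ g).obj F) l' (a' (q (Pi.single i 1))) := by
    intro L
    induction L with
    | nil => exact ⟨EtCoh.top X, topLift ξ, 0, fun i hi => absurd hi List.not_mem_nil⟩
    | cons i L ih =>
      obtain ⟨U, l, s, hs⟩ := ih
      obtain ⟨z, hz⟩ := (bijective_unitStalk g ζ F).2 (germM ζ ((EtModW.pull Λ g).obj F) l' (a' (q (Pi.single i 1))))
      obtain ⟨V, v, w, rfl⟩ := Φ.toPresheafFiber_jointly_surjective z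
      obtain ⟨S, g₁, g₂, -⟩ := IsCofilteredOrEmpty.cone_objs (C := Φ.fiber.Elements) ⟨U, l⟩ ⟨V, v⟩
      classical
      refine ⟨S.1, S.2, fun j => if j = i then F.obj.map g₂.1.op w else F.obj.map g₁.1.op (s j), fun j hj => ?_⟩
      by_cases hji : j = i
      · subst hji
        beta_reduce
        rw [if_pos rfl, germM_map, show Φ.fiber.map g₂.1 S.2 = v from g₂.2]
        exact hz
      · beta_reduce
        rw [if_neg hji, germM_map, show Φ.fiber.map g₁.1 S.2 = l from g₁.2]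
        exact hs j ((List.mem_cons.1 hj).resolve_left hji)
  obtain ⟨U₁, l₁, s, hs⟩ := hlift (List.finRange r)
  let h₁ : ModuleCat.of Λ (Fin r → Λ) ⟶ F.obj.obj (op U₁) :=
    ModuleCat.ofHom ((Pi.basisFun Λ (Fin r)).constr Λ s)
  have hh₁ : ∀ v, unitStalk g ζ F (germM ξ F l₁ (h₁ v)) = germM ζ ((EtModW.pull Λ g).obj F) l' (a' (q v)) := by
    have : (unitStalk g ζ F).hom ∘ₗ (Φ.toPresheafFiber U₁ l₁ F.obj).hom ∘ₗ h₁.hom =
        ((Scheme.pointSmallEtale ζ).toPresheafFiber W' l' ((EtModW.pull Λ g).obj F).obj).hom ∘ₗ a'.hom ∘ₗ q :=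
      (Pi.basisFun Λ (Fin r)).ext fun i => by
        show unitStalk g ζ F (germM ξ F l₁ (((Pi.basisFun Λ (Fin r)).constr Λ s) _)) = _
        rw [Module.Basis.constr_basis, Pi.basisFun_apply]
        exact hs i (List.mem_finRange i)
    exact fun v => LinearMap.congr_fun this v
  -- kill the relations
  let K : ModuleCat.{u + 1} Λ := ModuleCat.of Λ (LinearMap.ker q)
  haveI : Module.Finite Λ K := inferInstanceAs (Module.Finite Λ (LinearMap.ker q))
  obtain ⟨U₂, g₂, l₂, hl₂, hg₂⟩ := exists_refine_linear ξ l₁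
    (ModuleCat.ofHom (h₁.hom ∘ₗ (LinearMap.ker q).subtype)) (0 : K ⟶ F.obj.obj (op U₁)) fun c => by
      apply (bijective_unitStalk g ζ F).1
      refine (hh₁ c.1).trans ?_
      rw [LinearMap.mem_ker.1 c.2, map_zero]
      show germM ζ ((EtModW.pull Λ g).obj F) l' 0 = unitStalk g ζ F (germM ξ F l₁ 0)
      rw [show germM ξ F l₁ 0 = 0 from map_zero _, show germM ζ ((EtModW.pull Λ g).obj F) l' 0 = 0 from map_zero _]
      exact (map_zero (unitStalk g ζ F).hom).symm
  rw [zero_comp] at hg₂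
  have hle : LinearMap.ker q ≤ LinearMap.ker ((F.obj.map g₂.op).hom ∘ₗ h₁.hom) := by
    intro c hc
    have h0 := LinearMap.congr_fun (congrArg ModuleCat.Hom.hom hg₂) ⟨c, hc⟩
    simp only [ModuleCat.hom_comp, ModuleCat.hom_ofHom, LinearMap.comp_apply, ModuleCat.hom_zero,
      LinearMap.zero_apply, Submodule.coe_subtype] at h0
    rw [LinearMap.mem_ker, LinearMap.comp_apply]
    exact h0
  let a : M ⟶ F.obj.obj (op U₂) := ModuleCat.ofHom
    ((LinearMap.ker q).liftQ ((F.obj.map g₂.op).hom ∘ₗ h₁.hom) hle ∘ₗ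
      (LinearMap.quotKerEquivOfSurjective q hq).symm.toLinearMap)
  have haq : ∀ v, a (q v) = F.obj.map g₂.op (h₁ v) := fun v => by
    show (LinearMap.ker q).liftQ ((F.obj.map g₂.op).hom ∘ₗ h₁.hom) hle ((LinearMap.quotKerEquivOfSurjective q hq).symm (q v)) = _
    rw [show (LinearMap.quotKerEquivOfSurjective q hq).symm (q v) = Submodule.Quotient.mk v from
      (LinearMap.quotKerEquivOfSurjective q hq).symm_apply_eq.2 rfl]
    rfl
  -- compare with the given local constancy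
  let B := (EtCoh.bc g).obj U₂
  let b : M ⟶ ((EtModW.pull Λ g).obj F).obj.obj (op B) := a ≫ unit.hom.app (op U₂)
  let lB := liftBc g ζ U₂ l₂
  obtain ⟨S, p₁, p₂, -⟩ := IsCofilteredOrEmpty.cone_objs
    (C := (Scheme.pointSmallEtale ζ).fiber.Elements) ⟨B, lB⟩ ⟨W', l'⟩
  obtain ⟨W, p₀, lW, hlW, hp₀⟩ := exists_refine_linear ζ S.2
    (b ≫ ((EtModW.pull Λ g).obj F).obj.map p₁.1.op) (a' ≫ ((EtModW.pull Λ g).obj F).obj.map p₂.1.op) fun m => by
      obtain ⟨v, rfl⟩ := hq m
      show germM ζ _ S.2 (((EtModW.pull Λ g).obj F).obj.map p₁.1.op (b (q v))) =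
        germM ζ _ S.2 (((EtModW.pull Λ g).obj F).obj.map p₂.1.op (a' (q v)))
      rw [germM_map, germM_map, show (Scheme.pointSmallEtale ζ).fiber.map p₁.1 S.2 = lB from p₁.2,
        show (Scheme.pointSmallEtale ζ).fiber.map p₂.1 S.2 = l' from p₂.2, ← hh₁]
      refine (hbc ζ l₂ (a (q v))).symm.trans (congrArg _ ?_)
      rw [haq, germM_map, hl₂]
  let p : W ⟶ B := p₀ ≫ p₁.1
  have hc : IsConstOn ((EtModW.pull Λ g).obj F) W (b ≫ ((EtModW.pull Λ g).obj F).obj.map p.op) := by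
    have e1 : b ≫ ((EtModW.pull Λ g).obj F).obj.map p.op =
        (a' ≫ ((EtModW.pull Λ g).obj F).obj.map p₂.1.op) ≫ ((EtModW.pull Λ g).obj F).obj.map p₀.op :=
      ((congrArg (b ≫ ·) (((EtModW.pull Λ g).obj F).obj.map_comp p₁.1.op p₀.op)).trans
        (Category.assoc _ _ _).symm).trans hp₀
    rw [e1]
    exact (ha'.map p₂.1).map p₀
  -- the open where this comparison is available
  haveI := etale_left p
  haveI : IsImmersion (bcFst g U₂) := MorphismProperty.pullback_fst _ _ ‹IsImmersion g›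
  obtain ⟨Q, hQo, hQ⟩ := (bcFst g U₂).isEmbedding.isInducing.isOpen_iff.1 p.left.isOpenMap.isOpen_range
  let f₂ : U₂.left ⟶ X := U₂.hom
  let Q' : U₂.left.Opens := ⟨Q ∩ f₂ ⁻¹' (O : Set X), hQo.inter (O.2.preimage f₂.continuous)⟩
  have hv : liftHom ξ l₂ default ∈ Q' := by
    constructor
    · rw [← liftHom_liftBc_fst g ζ U₂ l₂, Scheme.Hom.comp_apply]
      have hr : liftHom ζ lB default ∈ Set.range p.left := by
        refine ⟨liftHom ζ lW default, ?_⟩
        rw [← Scheme.Hom.comp_apply, ← liftHom_map, Functor.map_comp]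
        exact congrArg (fun x => liftHom ζ x default) ((congrArg _ hlW).trans p₁.2)
      rw [← hQ] at hr
      exact hr
    · show f₂ (liftHom ξ l₂ default) ∈ O
      rw [← Scheme.Hom.comp_apply, show liftHom ξ l₂ ≫ f₂ = ξ from liftHom_comp ξ l₂, hξ]
      exact hO
  obtain ⟨l₃, -⟩ := Scheme.pointSmallEtaleFiberObjToPreimage_surjective (geomPt (g t)) (geomPt_default _)
    (openSub U₂ Q') ⟨(⟨_, hv⟩ : Q'.toScheme), by
      show f₂ (liftHom ξ l₂ default) = g t
      rw [← Scheme.Hom.comp_apply, show liftHom ξ l₂ ≫ f₂ = ξ from liftHom_comp ξ l₂, hξ]⟩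
  refine ⟨openSub U₂ Q', l₃, M, hM, a ≫ F.obj.map (openIncl U₂ Q').op, fun Ω _ _ ξ' k => ?_⟩
  let k₂ := (Scheme.pointSmallEtale ξ').fiber.map (openIncl U₂ Q') k
  have e0 : (fun m : M => germM ξ' F k ((a ≫ F.obj.map (openIncl U₂ Q').op) m)) = fun m => germM ξ' F k₂ (a m) :=
    funext fun m => germM_map ξ' F (openIncl U₂ Q') k (a m)
  rw [e0]
  have hk : liftHom ξ' k₂ default ∈ Q' := by
    rw [liftHom_map, Scheme.Hom.comp_apply]
    exact (liftHom ξ' k default).2
  obtain ⟨ζ', hζ'⟩ := exists_lift_immersion ξ' g (hOg (by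
    rw [← liftHom_comp ξ' k₂, Scheme.Hom.comp_apply]
    exact hk.2))
  clear_value k₂
  subst hζ'
  have hb' : liftHom ζ' (liftBc g ζ' U₂ k₂) default ∈ Set.range p.left := by
    rw [← hQ, Set.mem_preimage, ← Scheme.Hom.comp_apply, liftHom_liftBc_fst]
    exact hk.1
  obtain ⟨w, hw⟩ := hb'
  obtain ⟨y, hy⟩ := exists_fiber_map_eq ζ' p _ w hw
  have e : (fun m : M => germM ζ' ((EtModW.pull Λ g).obj F) y ((b ≫ ((EtModW.pull Λ g).obj F).obj.map p.op) m)) =
      unitStalk g ζ' F ∘ fun m : M => germM (ζ' ≫ g) F k₂ (a m) := funext fun m => by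
    show germM ζ' _ y (((EtModW.pull Λ g).obj F).obj.map p.op (b m)) = _
    rw [germM_map, hy]
    exact (hbc ζ' k₂ (a m)).symm
  exact (Function.Bijective.of_comp_iff' (bijective_unitStalk g ζ' F) _).1 (e ▸ hc Ω ζ' y)

variable {I : Ideal Λ} {X : Scheme.{u}} [IsNoetherian X]

theorem isNoetherian_of_immersion {T : Scheme.{u}} (g : T ⟶ X) [IsImmersion g] : IsNoetherian T := by
  haveI : IsLocallyNoetherian T := LocallyOfFiniteType.isLocallyNoetherian g
  haveI : NoetherianSpace T := g.isEmbedding.isInducing.noetherianSpace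
  exact {}

/-- Generically on an irreducible closed subset all members are locally constant. -/
theorem exists_open_inter {F : ARSys.PS (EtModW.Mod Λ X)} (hF : ARSys.IsAdic I F)
    (hc : EtModW.IsConstructible Λ (F.obj (op 0))) {Z : Set X} (hZ : IsIrreducible Z) (hZc : IsClosed Z) :
    ∃ (T : Scheme.{u}) (g : T ⟶ X) (O : X.Opens), IsImmersion g ∧ Set.range g = (O : Set X) ∩ Z ∧
      ((O : Set X) ∩ Z).Nonempty ∧ ∀ n : ℕ, EtModW.IsFTLocConst Λ ((EtModW.pull Λ g).obj (F.obj (op n))) := by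
  obtain ⟨η, hη⟩ := QuasiSober.sober hZ hZc
  obtain ⟨A, hA, hηA, -⟩ := exists_isAffineOpen_mem_and_subset (show η ∈ (⊤ : X.Opens) from trivial)
  obtain ⟨m, S, s, hs, -, -, hu, hfl⟩ := hc A hA
  obtain ⟨i, hi⟩ := Set.mem_iUnion.1 (hu.symm ▸ hηA : η ∈ ⋃ i, Set.range (s i))
  haveI := hs i
  obtain ⟨O₁, C, hO₁, hC, hr⟩ := (s i).isLocallyClosed_range
  have hηO : η ∈ O₁ := (hr ▸ hi : η ∈ O₁ ∩ C).1
  have hZC : Z ⊆ C := hη ▸ hC.closure_subset_iff.2 (Set.singleton_subset_iff.2 (hr ▸ hi : η ∈ O₁ ∩ C).2)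
  obtain ⟨T₁, h, hh, hhs, hrange⟩ := exists_immersion_inter (s i) (L := O₁ ∩ Z)
    ((hO₁.isLocallyClosed).inter hZc.isLocallyClosed)
  rw [Set.inter_eq_right.2 (hr ▸ fun x hx => ⟨hx.1, hZC hx.2⟩)] at hrange
  haveI := hhs
  let g₁ := h ≫ s i
  haveI := isNoetherian_of_immersion g₁
  have hηr : η ∈ Set.range g₁ := by rw [hrange]; exact ⟨hηO, hη.mem⟩
  obtain ⟨η₁, hη₁⟩ := hηr
  have hspec : ∀ y, η₁ ⤳ y := fun y => g₁.isEmbedding.isInducing.specializes_iff.1 <| by
    rw [hη₁]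
    exact hη.specializes ((hrange ▸ Set.mem_range_self y : g₁ y ∈ O₁ ∩ Z).2)
  have h0 : EtModW.IsFTLocConst Λ ((EtModW.pull Λ g₁).obj (F.obj (op 0))) :=
    isFTLocConst_of_iso ((pullCompIsoMod h (s i)).app _) (Mdl.isFTLocConst_pull h (hfl i))
  have hG : ARSys.IsAdic I (F ⋙ EtModW.pull Λ g₁) :=
    ⟨fun n => Groth.Agent.S13614.pull_killedBy g₁ (hF.1 n),
      fun n m h => Groth.Agent.S13614.pull_isQuot g₁ (hF.2 n m h)⟩
  obtain ⟨V, hηV, hV⟩ := exists_constNear hG hspec (constNear_of h0 η₁)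
  obtain ⟨O₂, hO₂, hV₂⟩ := g₁.isEmbedding.isInducing.isOpen_iff.1 V.2
  have hVr : Set.range (V.ι ≫ g₁) = (O₁ ∩ O₂) ∩ Z := by
    rw [show ⇑(V.ι ≫ g₁) = ⇑g₁ ∘ ⇑V.ι from funext fun x => Scheme.Hom.comp_apply _ _ _, Set.range_comp,
      Scheme.Opens.range_ι]
    show g₁ '' (V.1) = _
    rw [← hV₂, Set.image_preimage_eq_inter_range, hrange]
    ext x; simp only [Set.mem_inter_iff]; tauto
  refine ⟨V.toScheme, V.ι ≫ g₁, ⟨O₁ ∩ O₂, hO₁.inter hO₂⟩, inferInstance, hVr, ⟨η, ?_⟩, fun n => ?_⟩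
  · rw [← hη₁]
    exact hVr ▸ ⟨(⟨η₁, hηV⟩ : V.toScheme), Scheme.Hom.comp_apply _ _ _⟩
  · exact isFTLocConst_of_iso ((pullCompIsoMod V.ι g₁).app _)
      (isFTLocConst_of_constNear fun x => constNear_pull V.ι x (hV n _ x.2))

/-- Finitely many immersed pieces cover a closed subset. -/
theorem exists_pieces {F : ARSys.PS (EtModW.Mod Λ X)} (hF : ARSys.IsAdic I F)
    (hc : EtModW.IsConstructible Λ (F.obj (op 0))) (C : Closeds X) :
    ∃ (ι : Type u) (_ : Finite ι) (T : ι → Scheme.{u}) (g : ∀ i, T i ⟶ X), (∀ i, IsImmersion (g i)) ∧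
      (C : Set X) ⊆ ⋃ i, Set.range (g i) ∧
      ∀ i (n : ℕ), EtModW.IsFTLocConst Λ ((EtModW.pull Λ (g i)).obj (F.obj (op n))) := by
  induction C using WellFoundedLT.induction with
  | _ C ih => ?_
  by_cases hirr : IsIrreducible (C : Set X)
  · obtain ⟨T, g, O, hg, hr, hne, hfl⟩ := exists_open_inter hF hc hirr C.2
    let C' : Closeds X := ⟨(C : Set X) \ O, C.2.sdiff O.2⟩
    have hlt : C' < C := lt_of_le_of_ne (fun x hx => hx.1) fun h => by
      obtain ⟨x, hxO, hxC⟩ := hne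
      exact ((h ▸ hxC : x ∈ C') : x ∈ (C : Set X) \ O).2 hxO
    obtain ⟨ι, _, T', g', hg', hcov, hfl'⟩ := ih C' hlt
    refine ⟨Option ι, inferInstance, fun o => o.elim T T', fun o => match o with
      | none => g
      | some i => g' i, fun o => match o with
      | none => hg
      | some i => hg' i, fun x hx => ?_, fun o => match o with
      | none => hfl
      | some i => hfl' i⟩
    by_cases hxO : x ∈ O
    · exact Set.mem_iUnion.2 ⟨none, (hr ▸ ⟨hxO, hx⟩ : x ∈ Set.range g)⟩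
    · obtain ⟨i, hi⟩ := Set.mem_iUnion.1 (hcov ⟨hx, hxO⟩)
      exact Set.mem_iUnion.2 ⟨some i, hi⟩
  · obtain rfl | hne := eq_or_ne C ⊥
    · exact ⟨PEmpty, inferInstance, PEmpty.elim, fun i => i.elim, fun i => i.elim, by simp, fun i => i.elim⟩
    have hnp : ¬ IsPreirreducible (C : Set X) := fun h => hirr
      ⟨Set.nonempty_iff_ne_empty.2 fun e => hne (SetLike.coe_injective e), h⟩
    rw [isPreirreducible_iff_isClosed_union_isClosed] at hnp
    push Not at hnp
    obtain ⟨z₁, z₂, hz₁, hz₂, hsub, h₁, h₂⟩ := hnp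
    let C₁ : Closeds X := C ⊓ ⟨z₁, hz₁⟩
    let C₂ : Closeds X := C ⊓ ⟨z₂, hz₂⟩
    have hlt₁ : C₁ < C := lt_of_le_of_ne inf_le_left fun h => h₁ fun x hx => (h ▸ hx : x ∈ C₁).2
    have hlt₂ : C₂ < C := lt_of_le_of_ne inf_le_left fun h => h₂ fun x hx => (h ▸ hx : x ∈ C₂).2
    obtain ⟨ι₁, _, T₁, g₁, hg₁, hcov₁, hfl₁⟩ := ih C₁ hlt₁
    obtain ⟨ι₂, _, T₂, g₂, hg₂, hcov₂, hfl₂⟩ := ih C₂ hlt₂
    refine ⟨ι₁ ⊕ ι₂, inferInstance, fun o => Sum.elim T₁ T₂ o, fun o => match o with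
      | .inl i => g₁ i
      | .inr i => g₂ i, fun o => match o with
      | .inl i => hg₁ i
      | .inr i => hg₂ i, fun x hx => ?_, fun o => match o with
      | .inl i => hfl₁ i
      | .inr i => hfl₂ i⟩
    rcases hsub hx with h | h
    · obtain ⟨i, hi⟩ := Set.mem_iUnion.1 (hcov₁ ⟨hx, h⟩)
      exact Set.mem_iUnion.2 ⟨.inl i, hi⟩
    · obtain ⟨i, hi⟩ := Set.mem_iUnion.1 (hcov₂ ⟨hx, h⟩)
      exact Set.mem_iUnion.2 ⟨.inr i, hi⟩

/-- A finite partition into strata serving all members. -/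
theorem exists_strata {F : ARSys.PS (EtModW.Mod Λ X)} (hF : ARSys.IsAdic I F)
    (hc : EtModW.IsConstructible Λ (F.obj (op 0))) :
    ∃ (m : ℕ) (T : Fin m → Scheme.{u}) (g : ∀ i, T i ⟶ X), (∀ i, IsImmersion (g i)) ∧
      Pairwise (fun i j => Disjoint (Set.range (g i)) (Set.range (g j))) ∧ (⋃ i, Set.range (g i)) = Set.univ ∧
      ∀ (i : Fin m) (n : ℕ), EtModW.IsFTLocConst Λ ((EtModW.pull Λ (g i)).obj (F.obj (op n))) := by
  obtain ⟨ι, _, T, g, hg, hcov, hfl⟩ := exists_pieces hF hc ⊤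
  obtain ⟨κ, _, L, hL, hdis, hLcov, hsub⟩ := exists_partition (fun i => Set.range (g i)) fun i => by
    haveI := hg i
    exact Groth.Agent.S13614.isConstructible_of_isLocallyClosed (g i).isLocallyClosed_range
  let κ' := {k : κ // ∃ i, L k ⊆ Set.range (g i)}
  obtain ⟨n, ⟨e⟩⟩ := Finite.exists_equiv_fin κ'
  choose i hi using fun k : κ' => k.2
  choose T' h hh hhg hr using fun k : κ' => haveI := hg (i k); exists_immersion_inter (g (i k)) (hL k.1).1
  have hr' : ∀ k : κ', Set.range (h k ≫ g (i k)) = L k.1 := fun k => (hr k).trans (Set.inter_eq_right.2 (hi k))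
  refine ⟨n, fun j => T' (e.symm j), fun j => h (e.symm j) ≫ g (i (e.symm j)), fun j => hhg _, ?_, ?_,
    fun j m => isFTLocConst_of_iso ((pullCompIsoMod (h (e.symm j)) (g (i (e.symm j)))).app _)
      (Mdl.isFTLocConst_pull _ (hfl _ m))⟩
  · intro a b hab
    show Disjoint (Set.range _) (Set.range _)
    rw [hr', hr']
    exact hdis fun he => hab (e.symm.injective (Subtype.ext he))
  · refine Set.eq_univ_of_forall fun x => ?_
    obtain ⟨k, hk⟩ := hLcov x
    obtain ⟨a, ha⟩ := Set.mem_iUnion.1 (hcov (Set.mem_univ x))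
    have hk' : L k ⊆ Set.range (g a) := (hsub k a).resolve_right fun hd => Set.disjoint_left.1 hd hk ha
    refine Set.mem_iUnion.2 ⟨e ⟨k, a, hk'⟩, ?_⟩
    show x ∈ Set.range _
    rw [hr', e.symm_apply_apply]
    exact hk

/-- The set of points near which all members are locally constant contains a dense open. -/
theorem exists_dense {F : ARSys.PS (EtModW.Mod Λ X)} (hF : ARSys.IsAdic I F)
    (hc : EtModW.IsConstructible Λ (F.obj (op 0))) :
    ∃ U : X.Opens, Dense (U : Set X) ∧ ∀ n : ℕ, EtModW.IsFTLocConst Λ ((EtModW.pull Λ U.ι).obj (F.obj (op n))) := by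
  let P : X.Opens → Prop := fun W => ∀ x ∈ W, ∀ n : ℕ, ConstNear (F.obj (op n)) x
  refine ⟨sSup {W | P W}, ?_, fun n => isFTLocConst_of_constNear fun x => constNear_pull _ x ?_⟩
  · refine dense_iff_inter_open.2 fun O hO ⟨x, hx⟩ => ?_
    obtain ⟨η, hη⟩ := QuasiSober.sober (isIrreducible_irreducibleComponent (x := x)) isClosed_irreducibleComponent
    obtain ⟨T, g, O₁, hg, hr, hne, hfl⟩ :=
      exists_open_inter hF hc (isIrreducible_irreducibleComponent (x := x)) isClosed_irreducibleComponent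
    let others := ⋃ Z ∈ {Z | Z ∈ irreducibleComponents X ∧ Z ≠ irreducibleComponent x}, Z
    have hoc : IsClosed others := Set.Finite.isClosed_biUnion
      ((NoetherianSpace.finite_irreducibleComponents (α := X)).subset fun Z hZ => hZ.1)
      fun Z hZ => isClosed_of_mem_irreducibleComponents Z hZ.1
    have hηo : η ∉ others := fun h => by
      obtain ⟨Z, ⟨hZ, hne'⟩, hηZ⟩ := Set.mem_iUnion₂.1 h
      exact hne' ((irreducibleComponent_mem_irreducibleComponents x).eq_of_le hZ.1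
        (hη ▸ (isClosed_of_mem_irreducibleComponents Z hZ).closure_subset_iff.2
          (Set.singleton_subset_iff.2 hηZ))).symm
    let W : X.Opens := ⟨(O₁ : Set X) \ others, O₁.2.sdiff hoc⟩
    have hWg : (W : Set X) ⊆ Set.range g := fun y hy => hr ▸ ⟨hy.1, by
      by_contra hyZ
      exact hy.2 (Set.mem_biUnion (x := irreducibleComponent y)
        ⟨irreducibleComponent_mem_irreducibleComponents y, fun h => hyZ (h ▸ mem_irreducibleComponent)⟩
        mem_irreducibleComponent)⟩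
    have hW : P W := fun y hy n => by
      obtain ⟨t, rfl⟩ := hWg hy
      exact constNear_of_immersion g t W hy hWg (constNear_of (hfl n) t)
    obtain ⟨z, hzO, hzZ⟩ := hne
    exact ⟨η, (hη.specializes mem_irreducibleComponent).mem_open hO hx,
      (le_sSup hW : W ≤ sSup {W | P W}) ⟨(hη.specializes hzZ).mem_open O₁.2 hzO, hηo⟩⟩
  · obtain ⟨W, hW, hxW⟩ := Opens.mem_sSup.1 x.2
    exact hW _ hxW n

end Groth.Agent.AdicStrataLib
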